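import Mathlib
import Cfsg.Agent.H8.SylowIn
import Cfsg.Agent.H4.Dihedral

/-!
# Transvections on an elementary abelian `2`-group
-/

set_option autoImplicit false

namespace Cfsg.Agent.KO

open Subgroup Cfsg.Agent.H8

variable {A : Type*} [Group A]

theorem comm_of_sq (h2 : ∀ a : A, a * a = 1) (a b : A) : a * b = b * a := by
  have h1 : ∀ x : A, x⁻¹ = x := fun x => inv_eq_of_mul_eq_one_right (h2 x)
  rw [← h1 (a * b), mul_inv_rev, h1, h1]

/-- `τ` is a transvection with centre `c`. -/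
structure Tv (τ : MulAut A) (c : A) : Prop where
  ne : c ≠ 1
  ne_one : τ ≠ 1
  act : ∀ a, τ a = a ∨ τ a = a * c

namespace Tv

variable {τ τ' : MulAut A} {c c' : A}

theorem eq_of_ne (h : Tv τ c) {a : A} (ha : τ a ≠ a) : τ a = a * c :=
  (h.act a).resolve_left ha

theorem exists_ne (h : Tv τ c) : ∃ a, τ a ≠ a := by
  by_contra hne
  push Not at hne
  exact h.ne_one (MulEquiv.ext hne)

theorem uniq (h : Tv τ c) (h' : Tv τ c') : c = c' := by
  obtain ⟨a, ha⟩ := h.exists_ne
  have h1 := h.eq_of_ne ha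
  rw [h'.eq_of_ne ha] at h1
  exact (mul_left_cancel h1).symm

theorem fix (h2 : ∀ a : A, a * a = 1) (h : Tv τ c) : τ c = c := by
  rcases h.act c with h1 | h1
  · exact h1
  · rw [h2, map_eq_one_iff _ τ.injective] at h1
    exact absurd h1 h.ne

theorem sq (h2 : ∀ a : A, a * a = 1) (h : Tv τ c) : τ * τ = 1 := by
  ext a
  rcases h.act a with h1 | h1
  · simp [h1]
  · simp only [MulAut.mul_apply, MulAut.one_apply]
    rw [h1, map_mul, h1, h.fix h2, mul_assoc, h2, mul_one]

theorem conj (h : Tv τ c) (x : MulAut A) : Tv (x * τ * x⁻¹) (x c) := by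
  refine ⟨by simpa using h.ne, fun h1 => h.ne_one ?_, fun a => ?_⟩
  · have : τ = x⁻¹ * (x * τ * x⁻¹) * x := by group
    rw [this, h1]; group
  · simp only [MulAut.mul_apply]
    rcases h.act (x⁻¹ a) with h1 | h1
    · left; rw [h1]; simp
    · right; rw [h1, map_mul]; simp

theorem ext (h : Tv τ c) (h' : Tv τ' c) (hf : ∀ a, τ a = a ↔ τ' a = a) : τ = τ' := by
  ext a
  by_cases ha : τ a = a
  · rw [ha, (hf a).1 ha]
  · rw [h.eq_of_ne ha, h'.eq_of_ne (fun h1 => ha ((hf a).2 h1))]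

theorem mul_fix_iff (h2 : ∀ a : A, a * a = 1) (h : Tv τ c) (a b : A) :
    τ (a * b) = a * b ↔ (τ a = a ↔ τ b = b) := by
  have hc := h.ne
  rw [map_mul]
  by_cases ha : τ a = a <;> by_cases hb : τ b = b
  · simp [ha, hb]
  · simp [ha, hb]
  · simp [ha, hb]
  · simp only [ha, hb, iff_true]
    rw [h.eq_of_ne ha, h.eq_of_ne hb, comm_of_sq h2 b c]
    calc a * c * (c * b) = a * (c * c) * b := by group
      _ = a * b := by rw [h2, mul_one]

theorem comm (h2 : ∀ a : A, a * a = 1) (h : Tv τ c) (h' : Tv τ' c') (h1 : τ c' = c')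
    (h1' : τ' c = c) : τ * τ' = τ' * τ := by
  ext a
  simp only [MulAut.mul_apply]
  rcases h.act a with ha | ha <;> rcases h'.act a with hb | hb
  · rw [hb, ha, hb]
  · rw [hb, map_mul, ha, h1, hb]
  · rw [hb, ha, map_mul, hb, h1']
  · rw [hb, ha, map_mul, map_mul, ha, hb, h1, h1', mul_assoc, mul_assoc, comm_of_sq h2 c]

/-- Two neighbouring transvections do not lie in a `2`-group. -/
theorem not_pgroup (h2 : ∀ a : A, a * a = 1) (h : Tv τ c) (h' : Tv τ' c') (h1 : τ c' ≠ c')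
    (h1' : τ' c ≠ c) {R : Subgroup (MulAut A)} (hR : IsPGroup 2 R) (hτ : τ ∈ R)
    (hτ' : τ' ∈ R) : False := by
  have e1 := h.eq_of_ne h1
  have e2 := h'.eq_of_ne h1'
  have f1 := h.fix h2
  have f2 := h'.fix h2
  set ρ := τ * τ' with hρ
  have a1 : ρ c = c' := by
    simp only [hρ, MulAut.mul_apply]
    rw [e2, map_mul, f1, e1, comm_of_sq h2 c', ← mul_assoc, h2, one_mul]
  have a2 : ρ c' = c' * c := by
    simp only [hρ, MulAut.mul_apply]
    rw [f2, e1]
  have a3 : ρ (c' * c) = c := by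
    rw [map_mul, a1, a2, comm_of_sq h2 c', mul_assoc, h2, mul_one]
  have hcc : c ≠ c' := fun e => h1 (e ▸ f1)
  have hcc2 : c' * c ≠ c := fun e => h'.ne (mul_right_cancel (e.trans (one_mul c).symm))
  have key : ∀ k : ℕ, ((ρ ^ 2 ^ k) c = c' ∧ (ρ ^ 2 ^ k) c' = c' * c) ∨
      ((ρ ^ 2 ^ k) c = c' * c ∧ (ρ ^ 2 ^ k) c' = c) := by
    intro k
    induction k with
    | zero => left; simp [a1, a2]
    | succ k ih =>
      rw [pow_succ, pow_mul, pow_two]
      simp only [MulAut.mul_apply]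
      rcases ih with ⟨b1, b2⟩ | ⟨b1, b2⟩
      · right
        refine ⟨by rw [b1, b2], ?_⟩
        rw [b2, map_mul, b1, b2, comm_of_sq h2 c', mul_assoc, h2, mul_one]
      · left
        refine ⟨?_, by rw [b2, b1]⟩
        rw [b1, map_mul, b1, b2, comm_of_sq h2 c', ← mul_assoc, h2, one_mul]
  obtain ⟨k, hk⟩ := hR ⟨ρ, mul_mem hτ hτ'⟩
  have hk' : ρ ^ 2 ^ k = 1 := congrArg Subtype.val hk
  rcases key k with ⟨b1, -⟩ | ⟨b1, -⟩
  · rw [hk'] at b1; exact hcc b1
  · rw [hk'] at b1; exact hcc2 b1.symm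

theorem pgroup_closure (h2 : ∀ a : A, a * a = 1) (h : Tv τ c) (h' : Tv τ' c')
    (h1' : τ' c = c) : IsPGroup 2 (closure ({τ, τ'} : Set (MulAut A))) := by
  refine H4.isPGroup_two_closure_involutions (h.sq h2) (h'.sq h2) ⟨2, ?_⟩
  have f1 := h.fix h2
  have f2 := h'.fix h2
  set ρ := τ * τ' with hρ
  have a1 : ρ c = c := by simp only [hρ, MulAut.mul_apply]; rw [h1', f1]
  have a2 : ρ c' = c' ∨ ρ c' = c' * c := by
    simp only [hρ, MulAut.mul_apply]; rw [f2]; exact h.act c'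
  have a3 : ∀ a, ∃ d, ρ a = a * d ∧ (d * ρ d = 1 ∨ d * ρ d = c) := by
    intro a
    have hc' : c' * ρ c' = 1 ∨ c' * ρ c' = c := by
      rcases a2 with e | e
      · left; rw [e, h2]
      · right; rw [e, ← mul_assoc, h2, one_mul]
    have hρa : ρ a = τ (τ' a) := rfl
    rcases h'.act a with hb | hb
    · rcases h.act a with ha | ha
      · exact ⟨1, by rw [hρa, hb, ha, mul_one], Or.inl (by simp)⟩
      · exact ⟨c, by rw [hρa, hb, ha], Or.inl (by rw [a1, h2])⟩
    · have hcc' : c' * c * ρ (c' * c) = 1 ∨ c' * c * ρ (c' * c) = c := by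
        have : c' * c * ρ (c' * c) = c' * ρ c' := by
          rw [map_mul, a1, comm_of_sq h2 (ρ c') c]
          calc c' * c * (c * ρ c') = c' * (c * c) * ρ c' := by group
            _ = _ := by rw [h2, mul_one]
        rw [this]; exact hc'
      rcases h.act a with ha | ha <;> rcases h.act c' with hc | hc
      · exact ⟨c', by rw [hρa, hb, map_mul, ha, hc], hc'⟩
      · exact ⟨c' * c, by rw [hρa, hb, map_mul, ha, hc], hcc'⟩
      · exact ⟨c' * c, by rw [hρa, hb, map_mul, ha, hc, comm_of_sq h2 c', mul_assoc], hcc'⟩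
      · refine ⟨c', ?_, hc'⟩
        rw [hρa, hb, map_mul, ha, hc, comm_of_sq h2 c' c]
        calc a * c * (c * c') = a * (c * c) * c' := by group
          _ = _ := by rw [h2, mul_one]
  have a4 : ∀ a, (ρ * ρ) a = a ∨ (ρ * ρ) a = a * c := by
    intro a
    obtain ⟨d, hd, hd'⟩ := a3 a
    have : (ρ * ρ) a = a * (d * ρ d) := by
      simp only [MulAut.mul_apply]; rw [hd, map_mul, hd, mul_assoc]
    rcases hd' with e | e
    · left; rw [this, e, mul_one]
    · right; rw [this, e]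
  have a5 : (ρ * ρ) c = c := by simp only [MulAut.mul_apply]; rw [a1, a1]
  have : ρ ^ 2 ^ 2 = (ρ * ρ) * (ρ * ρ) := by
    rw [show (2 : ℕ) ^ 2 = 2 * 2 by norm_num, pow_mul, pow_two, pow_two]
  rw [this]
  ext a
  rw [MulAut.mul_apply, MulAut.one_apply]
  rcases a4 a with e | e
  · rw [e, e]
  · rw [e, map_mul, e, a5, mul_assoc, h2, mul_one]

end Tv

/-- In every `2`-subgroup of `X` the transvections fix each other's centres and there are at most
`n` of them. -/
def Good (X : Subgroup (MulAut A)) (n : ℕ) : Prop :=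
  ∀ R : Subgroup (MulAut A), R ≤ X → IsPGroup 2 R →
    (∀ τ ∈ R, ∀ τ' ∈ R, ∀ c c', Tv τ c → Tv τ' c' → τ c' = c') ∧
      ∀ F : Finset (MulAut A), (∀ τ ∈ F, τ ∈ R ∧ ∃ c, Tv τ c) → F.card ≤ n

theorem Good.symm {X : Subgroup (MulAut A)} {n : ℕ} (hX : Good X n) (h2 : ∀ a : A, a * a = 1)
    {τ τ' : MulAut A} {c c' : A} (hτ : τ ∈ X) (hτ' : τ' ∈ X) (h : Tv τ c) (h' : Tv τ' c')
    (h1 : τ' c = c) : τ c' = c' := by
  refine (hX _ ?_ (h.pgroup_closure h2 h' h1)).1 τ (subset_closure (by simp)) τ'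
    (subset_closure (by simp)) c c' h h'
  rw [closure_le]
  rintro x (rfl | rfl)
  · exact hτ
  · exact hτ'

theorem pgroup_closure_of_comm {Γ : Type*} [Group Γ] {s : Set Γ} (h1 : ∀ x ∈ s, x * x = 1)
    (h2 : ∀ x ∈ s, ∀ y ∈ s, x * y = y * x) : IsPGroup 2 (closure s) := by
  have hc : ∀ x ∈ closure s, ∀ y ∈ closure s, x * y = y * x := by
    intro x hx y hy
    have h3 : closure s ≤ centralizer s := by
      rw [closure_le]; intro x hx; exact fun y hy => h2 y hy x hx
    rw [← centralizer_closure] at h3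
    exact h3 hy x hx
  have : ∀ x ∈ closure s, x * x = 1 := by
    intro x hx
    induction hx using closure_induction with
    | mem x hx => exact h1 x hx
    | one => simp
    | mul x y hx hy ihx ihy =>
      calc x * y * (x * y) = x * (y * x) * y := by group
        _ = x * x * (y * y) := by rw [← hc x hx y hy]; group
        _ = 1 := by rw [ihx, ihy, one_mul]
    | inv x hx ih => rw [← mul_inv_rev, ih, inv_one]
  rintro ⟨x, hx⟩
  exact ⟨1, Subtype.ext (by simpa [pow_two] using this x hx)⟩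

/-- A frame: `B`-indexed commuting transvections in `X` with distinct centres. -/
structure Frame (X : Subgroup (MulAut A)) {B : Type*} (τ : B → MulAut A) (c : B → A) : Prop where
  mem : ∀ b, τ b ∈ X
  tv : ∀ b, Tv (τ b) (c b)
  fix : ∀ b b', τ b (c b') = c b'
  inj : Function.Injective c

theorem Frame.pgroup {X : Subgroup (MulAut A)} {B : Type*} {τ : B → MulAut A} {c : B → A}
    (h2 : ∀ a : A, a * a = 1) (h : Frame X τ c) : IsPGroup 2 (closure (Set.range τ)) := by
  apply pgroup_closure_of_comm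
  · rintro _ ⟨b, rfl⟩; exact (h.tv b).sq h2
  · rintro _ ⟨b, rfl⟩ _ ⟨b', rfl⟩
    exact (h.tv b).comm h2 (h.tv b') (h.fix b b') (h.fix b' b)

theorem Frame.inj' {X : Subgroup (MulAut A)} {B : Type*} {τ : B → MulAut A} {c : B → A}
    (h : Frame X τ c) : Function.Injective τ := fun b b' e =>
  h.inj ((h.tv b).uniq (e ▸ h.tv b'))

/-- Two frames fixing `y` are conjugate under the stabilizer of `y`. -/
theorem Good.frame_conj [Finite A] {X : Subgroup (MulAut A)} {B : Type*} [Fintype B]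
    (hX : Good X (Fintype.card B)) (h2 : ∀ a : A, a * a = 1) {τ τ' : B → MulAut A}
    {c c' : B → A} (h : Frame X τ c) (h' : Frame X τ' c') {y : A} (hy : ∀ b, τ b y = y)
    (hy' : ∀ b, τ' b y = y) : ∃ x ∈ X, x y = y ∧ ∃ φ : B ≃ B, ∀ b, x (c b) = c' (φ b) := by
  classical
  have : Fact (Nat.Prime 2) := ⟨Nat.prime_two⟩
  set K : Subgroup (MulAut A) := X ⊓ MulAction.stabilizer (MulAut A) y with hK
  have hle : ∀ {τ : B → MulAut A} {c : B → A}, Frame X τ c → (∀ b, τ b y = y) →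
      closure (Set.range τ) ≤ K := by
    intro τ c h hy
    rw [closure_le]
    rintro _ ⟨b, rfl⟩
    exact mem_inf.mpr ⟨h.mem b, hy b⟩
  obtain ⟨P, hP, hP1⟩ := exists_isSylowIn_ge (h.pgroup h2) (hle h hy)
  obtain ⟨P', hP', hP1'⟩ := exists_isSylowIn_ge (h'.pgroup h2) (hle h' hy')
  obtain ⟨x, hx, hxP⟩ := hP.exists_cj_eq hP'
  obtain ⟨hx1, hx2⟩ := mem_inf.mp hx
  refine ⟨x, hx1, hx2, ?_⟩
  have hcard := (hX P' (hP'.le.trans inf_le_left) hP'.pgroup).2
  have key : ∀ b, ∃ b', τ' b' = x * τ b * x⁻¹ := by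
    intro b
    by_contra hne
    push Not at hne
    have h3 := hcard (insert (x * τ b * x⁻¹) (Finset.univ.image τ')) (by
      intro ρ hρ
      rcases Finset.mem_insert.mp hρ with rfl | hρ
      · refine ⟨?_, _, (h.tv b).conj x⟩
        rw [← hxP]
        exact conj_mem_cj x (hP1 (subset_closure ⟨b, rfl⟩))
      · obtain ⟨b', -, rfl⟩ := Finset.mem_image.mp hρ
        exact ⟨hP1' (subset_closure ⟨b', rfl⟩), _, h'.tv b'⟩)
    rw [Finset.card_insert_of_notMem, Finset.card_image_of_injective _ h'.inj',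
      Finset.card_univ] at h3
    · omega
    · intro hm
      obtain ⟨b', -, e⟩ := Finset.mem_image.mp hm
      exact hne b' e
  choose φ hφ using key
  have hφc : ∀ b, x (c b) = c' (φ b) := fun b =>
    ((h.tv b).conj x).uniq (hφ b ▸ h'.tv (φ b))
  have hinj : Function.Injective φ := fun b b' e =>
    h.inj (x.injective (by rw [hφc, hφc, e]))
  exact ⟨Equiv.ofBijective φ (Finite.injective_iff_bijective.mp hinj), hφc⟩

end Cfsg.Agent.KO
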